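import Cfsg.Agent.Lib.H22.J2Fus.Grp
import Cfsg.Agent.Lib.H14.LargeTransport

set_option autoImplicit false
set_option maxRecDepth 100000

/-! # The centraliser of a 2A-involution of the Hall–Janko group (presented form)

`C(t) = Q₀ : H₀` with `Q₀` normal extraspecial of order 32 and `C(t) / Q₀ ≅ A₅`; transported to
every group isomorphic to helper17's presented group and to every conjugate of the image of `t`. -/

namespace Cfsg.Agent.Lib.H22.J2Fus

open Cfsg.Agent.Lib.H17.CosetCert Cfsg.Agent.Lib.H17.J2P100 Cfsg.Agent.Lib.H17.J2PGlue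
  Cfsg.Agent.Lib.H17.J2Deg100 Cfsg.Agent.Lib.H22.J2Spec Cfsg.Agent.Lib.H22.J2Out
open scoped commutatorElement

theorem tt_sq : tt * tt = 1 := by
  show el [1] * el [1] = 1
  rw [el_single]
  exact of_mul_self _

theorem orderOf_tt : orderOf tt = 2 := by
  haveI : Fact (Nat.Prime 2) := ⟨Nat.prime_two⟩
  exact orderOf_eq_prime (by rw [pow_two]; exact tt_sq) tt_ne

/-- the centre `{1, t}` of `Q₀` -/
noncomputable def Z0 : Subgroup G := Subgroup.zpowers tt

theorem card_Z0 : Nat.card Z0 = 2 := by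
  rw [Z0, Nat.card_zpowers, orderOf_tt]

theorem mem_Z0_of {x : G} (h : x = 1 ∨ x = tt) : x ∈ Z0 := by
  rcases h with rfl | rfl
  · exact Subgroup.one_mem _
  · exact Subgroup.mem_zpowers _

theorem gQ_length : gpQ.length = 4 := rfl

theorem gS_mem_Q0 (i : ℕ) (hi : i < 4) : gS i ∈ Q0 := by
  have h1 : gpQ.getD i (0, []) ∈ gpQ := mem_getD gpQ i _ (by rw [gQ_length]; exact hi)
  have h2 : gpQ.getD i (0, []) = gpS.getD i (0, []) := by
    interval_cases i <;> rfl
  rw [h2] at h1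
  exact gen_mem_gsub gpQ _ h1

theorem gS_sq (i : ℕ) (hi : i < 4) : gS i * gS i = 1 := by
  have h1 : gpQ.getD i (0, []) ∈ gpQ := mem_getD gpQ i _ (by rw [gQ_length]; exact hi)
  have h2 : gpQ.getD i (0, []) = gpS.getD i (0, []) := by
    interval_cases i <;> rfl
  rw [h2] at h1
  have hr := rep_gen gpQ gpQ_ok _ h1
  exact eq_of_eqB (hr.mul hr) rep_one (List.all_eq_true.mp gQ_sq _ h1)

theorem conj_comm_aux {α : Type*} [Group α] (x y t : α) (hx : t * x = x * t) (hy : t * y = y * t) :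
    y * x * t * x⁻¹ * y⁻¹ = t := by
  have h1 : x * t * x⁻¹ = t := by rw [← hx, mul_inv_cancel_right]
  have h2 : y * t * y⁻¹ = t := by rw [← hy, mul_inv_cancel_right]
  calc y * x * t * x⁻¹ * y⁻¹ = y * (x * t * x⁻¹) * y⁻¹ := by group
    _ = t := by rw [h1, h2]

theorem comm_mem_Z0 : ∀ x ∈ Q0, ∀ y ∈ Q0, ⁅x, y⁆ ∈ Z0 := by
  intro x hx y hy
  have cx := tt_comm_S0 x (Q0_le_S0 hx)
  have cy := tt_comm_S0 y (Q0_le_S0 hy)
  obtain ⟨p, hp, rfl⟩ := Q0_cover x hx
  obtain ⟨r, hr, rfl⟩ := Q0_cover y hy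
  have hp' := rep_listed gpQ LQl LQ_ok p hp
  have hr' := rep_listed gpQ LQl LQ_ok r hr
  have h := List.all_eq_true.mp (List.all_eq_true.mp commQ_chk p hp) r hr
  rw [Bool.or_eq_true] at h
  apply mem_Z0_of
  rcases h with h | h
  · left
    have e : el (wd gpQ p.2) * el (wd gpQ r.2) = el (wd gpQ r.2) * el (wd gpQ p.2) :=
      eq_of_eqB (hp'.mul hr') (hr'.mul hp') h
    exact commutatorElement_eq_one_iff_mul_comm.mpr e
  · right
    have e : el (wd gpQ p.2) * el (wd gpQ r.2) = el (wd gpQ r.2) * el (wd gpQ p.2) * tt :=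
      eq_of_eqB (hp'.mul hr') ((hr'.mul hp').mul rep_tt) h
    rw [commutatorElement_def, e]
    exact conj_comm_aux _ _ _ cx cy

theorem tt_mem_comm : tt ∈ ⁅Q0, Q0⁆ := by
  have h0 := gS_sq 0 (by norm_num)
  have h1 := gS_sq 1 (by norm_num)
  have i0 : (gS 0)⁻¹ = gS 0 := inv_eq_of_mul_eq_one_right h0
  have i1 : (gS 1)⁻¹ = gS 1 := inv_eq_of_mul_eq_one_right h1
  have r0 := rep_gS 0 (by norm_num)
  have r1 := rep_gS 1 (by norm_num)
  have e : gS 0 * gS 1 * (gS 0 * gS 1) = tt :=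
    eq_of_eqB ((r0.mul r1).mul (r0.mul r1)) rep_tt x5_sq
  have e2 : ⁅gS 0, gS 1⁆ = tt := by
    rw [commutatorElement_def, i0, i1, ← e]
    group
  rw [← e2]
  exact Subgroup.commutator_mem_commutator (gS_mem_Q0 0 (by norm_num)) (gS_mem_Q0 1 (by norm_num))

theorem sq_mem_Z0 : ∀ x ∈ Q0, x ^ 2 ∈ Z0 := by
  intro x hx
  obtain ⟨p, hp, rfl⟩ := Q0_cover x hx
  have hp' := rep_listed gpQ LQl LQ_ok p hp
  have h := List.all_eq_true.mp sqQ_chk p hp
  rw [Bool.or_eq_true] at h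
  rw [pow_two]
  apply mem_Z0_of
  rcases h with h | h
  · left
    exact eq_of_eqB (hp'.mul hp') rep_one h
  · right
    exact eq_of_eqB (hp'.mul hp') rep_tt h

/-- **`Q₀` is extraspecial.** -/
theorem Q0_extraspecial : Cfsg.IsExtraspecial 2 ↥Q0 := by
  haveI := Cfsg.Agent.Lib.H17.J2Ord.finite_G
  haveI : Fact (Nat.Prime 2) := ⟨Nat.prime_two⟩
  have hZQ : Z0 ≤ Q0 := Subgroup.zpowers_le.mpr tt_mem_Q0
  apply Cfsg.Agent.Lib.H27.isExtraspecial_subgroup 2 Q0 Z0
    (IsPGroup.of_card (n := 5) (by rw [card_Q0]; norm_num)) hZQ card_Z0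
  · apply le_antisymm
    · intro x hx
      obtain ⟨hxQ, hxC⟩ := Subgroup.mem_inf.mp hx
      rw [Subgroup.mem_centralizer_iff] at hxC
      exact mem_Z0_of (cent_Q0_in_S0 x (Q0_le_S0 hxQ) (fun q hq => (hxC q hq).symm))
    · apply Subgroup.zpowers_le.mpr
      refine Subgroup.mem_inf.mpr ⟨tt_mem_Q0, ?_⟩
      rw [Subgroup.mem_centralizer_iff]
      intro h hh
      exact (tt_comm_S0 h (Q0_le_S0 hh)).symm
  · apply le_antisymm
    · exact Subgroup.commutator_le.mpr comm_mem_Z0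
    · exact Subgroup.zpowers_le.mpr tt_mem_comm
  · exact sq_mem_Z0

theorem Q0_le_cent : Q0 ≤ Subgroup.centralizer ({tt} : Set G) := by
  intro q hq
  rw [Subgroup.mem_centralizer_iff]
  intro h hh
  rw [Set.mem_singleton_iff] at hh
  subst hh
  exact tt_comm_S0 q (Q0_le_S0 hq)

theorem H0_le_cent : H0 ≤ Subgroup.centralizer ({tt} : Set G) := by
  intro q hq
  rw [Subgroup.mem_centralizer_iff]
  intro h hh
  rw [Set.mem_singleton_iff] at hh
  subst hh
  exact tt_comm_H0 q hq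

theorem cent_factor : ∀ c : G, c * tt = tt * c → ∃ q ∈ Q0, ∃ h ∈ H0, c = q * h := by
  haveI := Cfsg.Agent.Lib.H17.J2Ord.finite_G
  exact Cfsg.Agent.Lib.H3.FusGen.centralizer_factor tt Q0 H0 Q0_le_cent H0_le_cent card_cent_le
    card_Q0 H0_iso H0_normalizes

theorem Q0_inf_H0 : Q0 ⊓ H0 = ⊥ := by
  obtain ⟨e0⟩ := H0_iso
  haveI : IsSimpleGroup H0 := e0.isSimpleGroup
  have hN : ((Q0 ⊓ H0).subgroupOf H0).Normal := by
    constructor
    intro n hn g
    rw [Subgroup.mem_subgroupOf] at hn ⊢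
    exact ⟨H0_normalizes g g.2 n hn.1, (g * n * g⁻¹).2⟩
  rcases hN.eq_bot_or_eq_top with h | h
  · rw [Subgroup.subgroupOf_eq_bot] at h
    have := h.eq_bot
    rwa [inf_assoc, inf_idem] at this
  · exfalso
    haveI := Cfsg.Agent.Lib.H17.J2Ord.finite_G
    rw [Subgroup.subgroupOf_eq_top] at h
    have h1 : H0 ≤ Q0 := h.trans inf_le_left
    have := Subgroup.card_le_of_le h1
    rw [card_H0, card_Q0] at this
    omega

/-- **The structure of the centraliser of `t`.** -/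
theorem cent_struct : ∃ (Q : Subgroup ↥(Subgroup.centralizer ({tt} : Set G))) (_ : Q.Normal),
    Nat.card Q = 32 ∧ Cfsg.IsExtraspecial 2 Q ∧
      Nonempty (↥(Subgroup.centralizer ({tt} : Set G)) ⧸ Q ≃* alternatingGroup (Fin 5)) := by
  haveI := Cfsg.Agent.Lib.H17.J2Ord.finite_G
  haveI : Fact (Nat.Prime 2) := ⟨Nat.prime_two⟩
  have hN : (Q0.subgroupOf (Subgroup.centralizer ({tt} : Set G))).Normal := by
    constructor
    intro n hn g
    rw [Subgroup.mem_subgroupOf] at hn ⊢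
    have hg : (g : G) * tt = tt * g := (Subgroup.mem_centralizer_iff.mp g.2 tt rfl).symm
    obtain ⟨q, hq, h, hh, hgq⟩ := cent_factor g.1 hg
    have e : ((g * n * g⁻¹ : ↥(Subgroup.centralizer ({tt} : Set G))) : G) =
        q * (h * (n : G) * h⁻¹) * q⁻¹ := by
      show (g : G) * n * (g : G)⁻¹ = _
      rw [hgq]
      group
    rw [e]
    exact Q0.mul_mem (Q0.mul_mem hq (H0_normalizes h hh n hn)) (Q0.inv_mem hq)
  refine ⟨Q0.subgroupOf (Subgroup.centralizer ({tt} : Set G)), hN, ?_, ?_, ?_⟩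
  · rw [Nat.card_congr (Subgroup.subgroupOfEquivOfLe Q0_le_cent).toEquiv, card_Q0]
  · exact Cfsg.Agent.Lib.H14.LargeTransport.isExtraspecial_of_mulEquiv 2
      (Subgroup.subgroupOfEquivOfLe Q0_le_cent).symm Q0_extraspecial
  · obtain ⟨e0⟩ := H0_iso
    let φ : H0 →* ↥(Subgroup.centralizer ({tt} : Set G)) ⧸
        Q0.subgroupOf (Subgroup.centralizer ({tt} : Set G)) :=
      (QuotientGroup.mk' _).comp (Subgroup.inclusion H0_le_cent)
    have hinj : Function.Injective φ := by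
      rw [injective_iff_map_eq_one]
      intro h hh
      have h1 : Subgroup.inclusion H0_le_cent h ∈
          Q0.subgroupOf (Subgroup.centralizer ({tt} : Set G)) :=
        (QuotientGroup.eq_one_iff _).mp hh
      rw [Subgroup.mem_subgroupOf] at h1
      have h2 : (h : G) ∈ Q0 ⊓ H0 := Subgroup.mem_inf.mpr ⟨h1, h.2⟩
      rw [Q0_inf_H0, Subgroup.mem_bot] at h2
      exact Subtype.ext h2
    have hsurj : Function.Surjective φ := by
      intro c
      induction c using QuotientGroup.induction_on with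
      | H c0 =>
        have hg : (c0 : G) * tt = tt * c0 := (Subgroup.mem_centralizer_iff.mp c0.2 tt rfl).symm
        obtain ⟨q, hq, h, hh, hgq⟩ := cent_factor c0.1 hg
        refine ⟨⟨h, hh⟩, ?_⟩
        show (QuotientGroup.mk (Subgroup.inclusion H0_le_cent ⟨h, hh⟩) : _ ⧸ _) =
          QuotientGroup.mk c0
        rw [QuotientGroup.eq, Subgroup.mem_subgroupOf]
        show h⁻¹ * (c0 : G) ∈ Q0
        rw [hgq]
        have := H0_normalizes h⁻¹ (H0.inv_mem hh) q hq
        rw [inv_inv] at this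
        rw [← mul_assoc]
        exact this
    exact ⟨(MulEquiv.ofBijective φ ⟨hinj, hsurj⟩).symm.trans e0⟩

/-! ### transport -/

/-- the isomorphism of centralisers induced by an isomorphism -/
noncomputable def centEquiv {A B : Type*} [Group A] [Group B] (ψ : A ≃* B) (t : A) :
    ↥(Subgroup.centralizer ({t} : Set A)) ≃* ↥(Subgroup.centralizer ({ψ t} : Set B)) where
  toFun c := ⟨ψ c.1, by
    rw [Subgroup.mem_centralizer_iff]
    intro h hh
    rw [Set.mem_singleton_iff] at hh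
    subst hh
    rw [← map_mul, ← map_mul, Subgroup.mem_centralizer_iff.mp c.2 t rfl]⟩
  invFun c := ⟨ψ.symm c.1, by
    rw [Subgroup.mem_centralizer_iff]
    intro h hh
    rw [Set.mem_singleton_iff] at hh
    subst hh
    apply ψ.injective
    rw [map_mul, map_mul, ψ.apply_symm_apply]
    exact Subgroup.mem_centralizer_iff.mp c.2 (ψ h) rfl⟩
  left_inv c := Subtype.ext (ψ.symm_apply_apply _)
  right_inv c := Subtype.ext (ψ.apply_symm_apply _)
  map_mul' a b := Subtype.ext (map_mul ψ _ _)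

theorem struct_transport {A B : Type*} [Group A] [Group B] [Finite A] (ψ : A ≃* B) (t : A)
    (h : ∃ (Q : Subgroup ↥(Subgroup.centralizer ({t} : Set A))) (_ : Q.Normal),
      Nat.card Q = 32 ∧ Cfsg.IsExtraspecial 2 Q ∧
        Nonempty (↥(Subgroup.centralizer ({t} : Set A)) ⧸ Q ≃* alternatingGroup (Fin 5))) :
    ∃ (Q : Subgroup ↥(Subgroup.centralizer ({ψ t} : Set B))) (_ : Q.Normal),
      Nat.card Q = 32 ∧ Cfsg.IsExtraspecial 2 Q ∧
        Nonempty (↥(Subgroup.centralizer ({ψ t} : Set B)) ⧸ Q ≃* alternatingGroup (Fin 5)) := by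
  haveI : Fact (Nat.Prime 2) := ⟨Nat.prime_two⟩
  obtain ⟨Q, hQn, hc, hes, ⟨e0⟩⟩ := h
  let ι := centEquiv ψ t
  haveI : (Q.map ι.toMonoidHom).Normal := hQn.map ι.toMonoidHom ι.surjective
  refine ⟨Q.map ι.toMonoidHom, inferInstance, ?_, ?_, ?_⟩
  · rw [Subgroup.card_map_of_injective ι.injective, hc]
  · exact Cfsg.Agent.Lib.H14.LargeTransport.isExtraspecial_of_mulEquiv 2 (ι.subgroupMap Q) hes
  · exact ⟨(QuotientGroup.congr Q (Q.map ι.toMonoidHom) ι rfl).symm.trans e0⟩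

/-- **The centraliser of any conjugate of the image of `t`** in a group isomorphic to the
presented Hall–Janko group. -/
theorem cent_struct_of_equiv {G' : Type*} [Group G'] (e : Cfsg.Agent.Lib.H17.J2Pres.Grp ≃* G')
    (k : G') :
    ∃ (Q : Subgroup ↥(Subgroup.centralizer
        ({k * e (PresentedGroup.of Cfsg.Agent.Lib.H17.J2Pres.Gen.b) * k⁻¹} : Set G')))
      (_ : Q.Normal), Nat.card Q = 32 ∧ Cfsg.IsExtraspecial 2 Q ∧
        Nonempty (↥(Subgroup.centralizer
          ({k * e (PresentedGroup.of Cfsg.Agent.Lib.H17.J2Pres.Gen.b) * k⁻¹} : Set G')) ⧸ Q ≃*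
            alternatingGroup (Fin 5)) := by
  haveI := Cfsg.Agent.Lib.H17.J2Ord.finite_G
  have key := struct_transport ((e : G ≃* G').trans (MulAut.conj k)) tt cent_struct
  have ht : ((e : G ≃* G').trans (MulAut.conj k)) tt =
      k * e (PresentedGroup.of Cfsg.Agent.Lib.H17.J2Pres.Gen.b) * k⁻¹ := by
    have h1 : tt = PresentedGroup.of Cfsg.Agent.Lib.H17.J2Pres.Gen.b := by
      show el [1] = _
      rw [el_single]
      rfl
    rw [h1]
    rfl
  rw [ht] at key
  exact key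

end Cfsg.Agent.Lib.H22.J2Fus
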