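import Cfsg.Agent.Lib.H22.J2Fus.Cent

set_option autoImplicit false
set_option maxRecDepth 100000

/-! # The centraliser of a conjugate of the generator `a` (transport-ready form) -/

namespace Cfsg.Agent.Lib.H22.J2Fus

open Cfsg.Agent.Lib.H17.CosetCert Cfsg.Agent.Lib.H17.J2P100 Cfsg.Agent.Lib.H17.J2PGlue
  Cfsg.Agent.Lib.H17.J2Deg100 Cfsg.Agent.Lib.H22.J2Spec Cfsg.Agent.Lib.H22.J2Out

theorem ab_conj_chk : eqB ([tab1] ++ tw [0, 1, 0, 1]) (tw [0, 1, 0, 1] ++ [tab0]) = true := by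
  decide +kernel

/-- the generators `a` and `b` are conjugate -/
theorem ab_conj : el [0, 1, 0, 1] * PresentedGroup.of Cfsg.Agent.Lib.H17.J2Pres.Gen.b *
    (el [0, 1, 0, 1])⁻¹ = (PresentedGroup.of Cfsg.Agent.Lib.H17.J2Pres.Gen.a : G) := by
  have h1 : tt = PresentedGroup.of Cfsg.Agent.Lib.H17.J2Pres.Gen.b := by
    show el [1] = _
    rw [el_single]
    rfl
  have h0 : el [0] = PresentedGroup.of Cfsg.Agent.Lib.H17.J2Pres.Gen.a := by
    rw [el_single]
    rfl
  have hrel : el [0, 1, 0, 1] * tt = el [0] * el [0, 1, 0, 1] :=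
    eq_of_eqB ((rep_el _).mul rep_tt) ((rep_el [0]).mul (rep_el _)) ab_conj_chk
  rw [← h1, ← h0]
  exact conj_of_rel hrel

/-- **The centraliser of any conjugate of the image of the generator `a`** in a group isomorphic
to the presented Hall–Janko group: a normal extraspecial subgroup of order 32 with quotient
`A₅`. -/
theorem cent_a_struct {G' : Type*} [Group G'] (e : Cfsg.Agent.Lib.H17.J2Pres.Grp ≃* G') (x : G')
    (hx : IsConj (e (PresentedGroup.of Cfsg.Agent.Lib.H17.J2Pres.Gen.a)) x) :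
    ∃ (Q : Subgroup ↥(Subgroup.centralizer ({x} : Set G'))) (_ : Q.Normal),
      Nat.card Q = 32 ∧ Cfsg.IsExtraspecial 2 Q ∧
        Nonempty (↥(Subgroup.centralizer ({x} : Set G')) ⧸ Q ≃* alternatingGroup (Fin 5)) := by
  obtain ⟨c, hc⟩ := isConj_iff.mp hx
  have key := cent_struct_of_equiv e (c * e (el [0, 1, 0, 1]))
  have hk : c * e (el [0, 1, 0, 1]) * e (PresentedGroup.of Cfsg.Agent.Lib.H17.J2Pres.Gen.b) *
      (c * e (el [0, 1, 0, 1]))⁻¹ = x := by
    rw [← hc, ← ab_conj, map_mul, map_mul, map_inv]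
    group
  rw [hk] at key
  exact key

end Cfsg.Agent.Lib.H22.J2Fus
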