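import Cfsg.Agent.Lib.H22.J2Fus.Data

set_option autoImplicit false
set_option maxRecDepth 100000

/-! # The 2-local data of the Hall–Janko group: the kernel checks -/

namespace Cfsg.Agent.Lib.H22.J2Fus

open Cfsg.Agent.Lib.H17.CosetCert Cfsg.Agent.Lib.H17.J2P100 Cfsg.Agent.Lib.H17.J2PGlue
  Cfsg.Agent.Lib.H17.J2Deg100 Cfsg.Agent.Lib.H22.J2Spec Cfsg.Agent.Lib.H22.J2Out

/-- generators of the extraspecial subgroup -/
def gpQ : List (ℕ × List ℕ) := gpS.take 4

/-- the table of generator `i` of the Sylow subgroup -/
def TS (i : ℕ) : ℕ := (gpS.getD i (0, [])).1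

/-- the table of generator `i` of the complement -/
def TH (i : ℕ) : ℕ := (gpH.getD i (0, [])).1

/-- the word conjugating `t` by `w` -/
def cjw (w : List ℕ) : List ℕ := w.reverse ++ [1] ++ w

/-- the code of a word of tables on the base -/
noncomputable def codeW (ts : List ℕ) : ℕ :=
  Nat.add (Nat.mul (Nat.add (Nat.mul (Nat.add (Nat.mul (applyT 7 128 ts 0) 128)
    (applyT 7 128 ts 36)) 128) (applyT 7 128 ts 1)) 128) (applyT 7 128 ts 2)

theorem gpS_ok : gpS.all (fun p => wordTab (tw p.2) p.1 100) = true := by decide +kernel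

theorem gpQ_ok : gpQ.all (fun p => wordTab (tw p.2) p.1 100) = true := by decide +kernel

theorem gpH_ok : gpH.all (fun p => wordTab (tw p.2) p.1 100) = true := by decide +kernel

theorem LS_ok : LSl.all (fun p => wordTab (tw (wd gpS p.2)) p.1 100) = true := by decide +kernel

theorem LQ_ok : LQl.all (fun p => wordTab (tw (wd gpQ p.2)) p.1 100) = true := by decide +kernel

theorem LH_ok : LHl.all (fun p => wordTab (tw (wd gpH p.2)) p.1 100) = true := by decide +kernel

theorem LS_one : LSl.any (fun p => eqB [p.1] []) = true := by decide +kernel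

theorem LQ_one : LQl.any (fun p => eqB [p.1] []) = true := by decide +kernel

theorem LH_one : LHl.any (fun p => eqB [p.1] []) = true := by decide +kernel

theorem LS_cl : LSl.all (fun p => gpS.all (fun g =>
    LSl.any (fun r => eqB ([g.1] ++ [p.1]) [r.1]))) = true := by decide +kernel

theorem LQ_cl : LQl.all (fun p => gpQ.all (fun g =>
    LQl.any (fun r => eqB ([g.1] ++ [p.1]) [r.1]))) = true := by decide +kernel

theorem LH_cl : LHl.all (fun p => gpH.all (fun g =>
    LHl.any (fun r => eqB ([g.1] ++ [p.1]) [r.1]))) = true := by decide +kernel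

theorem LS_code : LSl.map (fun p => codeT p.1) = SCode := by decide +kernel

theorem LQ_code : LQl.map (fun p => codeT p.1) = QCode := by decide +kernel

theorem LH_code : LHl.map (fun p => codeT p.1) = HCode := by decide +kernel

theorem SCode_nodup : SCode.Nodup := by decide +kernel

theorem QCode_nodup : QCode.Nodup := by decide +kernel

theorem HCode_nodup : HCode.Nodup := by decide +kernel

theorem LS_length : LSl.length = 128 := by decide +kernel

theorem LQ_length : LQl.length = 32 := by decide +kernel

theorem LH_length : LHl.length = 60 := by decide +kernel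

theorem t_in_Q : LQl.any (fun p => eqB [p.1] [tab1]) = true := by decide +kernel

theorem t_comm_S : gpS.all (fun g => eqB ([g.1] ++ [tab1]) ([tab1] ++ [g.1])) = true := by
  decide +kernel

theorem t_comm_H : gpH.all (fun g => eqB ([g.1] ++ [tab1]) ([tab1] ++ [g.1])) = true := by
  decide +kernel

theorem cq_chk : LSl.all (fun p => eqB [p.1] [] || (eqB [p.1] [tab1] ||
    gpQ.any (fun g => !eqB ([g.1] ++ [p.1]) ([p.1] ++ [g.1])))) = true := by decide +kernel

theorem norm_chk : gpH.all (fun h => gpQ.all (fun q =>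
    LQl.any (fun r => eqB ([q.1] ++ [h.1]) ([h.1] ++ [r.1])))) = true := by decide +kernel

theorem u_sq : eqB ([TH 0] ++ [TH 0]) [] = true := by decide +kernel

theorem u_ne : eqB [TH 0] [] = false := by decide +kernel

theorem t_ne : eqB [tab1] [] = false := by decide +kernel

theorem conj_chk : (List.range 4).all (fun i =>
    eqB ([tab1] ++ tw (cg.getD i [])) (tw (cg.getD i []) ++ [TS i])) = true := by decide +kernel

theorem conj5_chk : eqB (([TS 1] ++ [TS 0]) ++ tw (cg.getD 4 [])) (tw (cg.getD 4 []) ++ [TS 4])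
    = true := by decide +kernel

theorem conj6_chk : eqB ([TS 4] ++ tw (cg.getD 5 [])) (tw (cg.getD 5 []) ++ [TS 5]) = true := by
  decide +kernel

theorem Cj_code : Cj.map (fun w => codeW (tw (cjw w))) = CjCode := by decide +kernel

theorem CjCode_nodup : CjCode.Nodup := by decide +kernel

theorem Cj_length : Cj.length = 315 := by decide +kernel

theorem comm_chk : gpH.all (fun g => [cu, cv].any (fun c =>
    eqB (tw (wd gpH c.1) ++ (tw (wd gpH c.2) ++ [g.1])) (tw (wd gpH c.2) ++ tw (wd gpH c.1))))
    = true := by decide +kernel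

theorem commQ_chk : LQl.all (fun p => LQl.all (fun r =>
    eqB ([r.1] ++ [p.1]) ([p.1] ++ [r.1]) ||
      eqB ([r.1] ++ [p.1]) ([tab1] ++ ([p.1] ++ [r.1])))) = true := by decide +kernel

theorem sqQ_chk : LQl.all (fun p => eqB ([p.1] ++ [p.1]) [] || eqB ([p.1] ++ [p.1]) [tab1])
    = true := by decide +kernel

theorem x5_sq : eqB (([TS 1] ++ [TS 0]) ++ ([TS 1] ++ [TS 0])) [tab1] = true := by decide +kernel

theorem gQ_sq : gpQ.all (fun g => eqB ([g.1] ++ [g.1]) []) = true := by decide +kernel

end Cfsg.Agent.Lib.H22.J2Fus
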