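import Mathlib
import Cfsg.Agent.Lib.H3.FusGen

set_option autoImplicit false

/-! # Simplicity of the 2-fusion system from explicit local data (two classes of involutions)

A variant of helper3's criterion for groups with Sylow 2-subgroup `S₀` of order 128 whose centre is
`{1, t}` and with `C(t) = Q' : H'`, `H' ≅ A₅`.  The strongly closed subgroups are controlled by a
chain hypothesis instead of the conjugacy of all involutions. -/

namespace Cfsg.Agent.Lib.H22.J2Fus

open Cfsg

/-- the local data -/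
structure FusData {G : Type*} [Group G] (S₀ Q' H' : Subgroup G) (t u : G) (m : ℕ) : Prop where
  hm : ¬ 2 ∣ m
  cardG : Nat.card G = 128 * m
  cardS : Nat.card S₀ = 128
  cardQ : Nat.card Q' = 32
  cardC : Nat.card (Subgroup.centralizer ({t} : Set G)) ≤ 1920
  isoH : Nonempty (H' ≃* alternatingGroup (Fin 5))
  ht1 : t ≠ 1
  htQ : t ∈ Q'
  hQS : Q' ≤ S₀
  htc : ∀ y ∈ S₀, t * y = y * t
  hHc : ∀ y ∈ H', t * y = y * t
  hCQ : ∀ x ∈ S₀, (∀ q ∈ Q', x * q = q * x) → x = 1 ∨ x = t
  hnorm : ∀ h ∈ H', ∀ q ∈ Q', h * q * h⁻¹ ∈ Q'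
  huH : u ∈ H'
  hu1 : u ≠ 1
  huu : u * u = 1
  hchain : ∀ T : Subgroup G, T ≤ S₀ → t ∈ T →
    (∀ x ∈ T, ∀ g : G, g * x * g⁻¹ ∈ S₀ → g * x * g⁻¹ ∈ T) → S₀ ≤ T

variable {G : Type*} [Group G]

/-- strongly closed subgroups, from the chain hypothesis -/
theorem stronglyClosed_of_chain [Finite G] (S₀ : Subgroup G) (hS : IsPGroup 2 S₀) (t : G)
    (hZ : ∀ x ∈ S₀, (∀ y ∈ S₀, x * y = y * x) → x = 1 ∨ x = t)
    (hchain : ∀ T : Subgroup G, T ≤ S₀ → t ∈ T →
      (∀ x ∈ T, ∀ g : G, g * x * g⁻¹ ∈ S₀ → g * x * g⁻¹ ∈ T) → S₀ ≤ T)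
    (T : Subgroup G) (hT : Cfsg.IsStronglyClosed T S₀) : T = ⊥ ∨ T = S₀ := by
  by_cases hbot : T = ⊥
  · exact Or.inl hbot
  right
  obtain ⟨hTS, hcl⟩ := hT
  apply le_antisymm hTS
  haveI : (T.subgroupOf S₀).Normal := by
    constructor
    intro n hn s
    rw [Subgroup.mem_subgroupOf] at hn ⊢
    have := hcl _ hn s.1 (S₀.mul_mem (S₀.mul_mem s.2 n.2) (S₀.inv_mem s.2))
    simpa using this
  have hne : T.subgroupOf S₀ ≠ ⊥ := by
    intro h
    apply hbot
    rw [Subgroup.eq_bot_iff_forall]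
    intro x hx
    have : (⟨x, hTS hx⟩ : S₀) ∈ T.subgroupOf S₀ := by
      rw [Subgroup.mem_subgroupOf]; exact hx
    rw [h, Subgroup.mem_bot] at this
    exact congrArg Subtype.val this
  haveI : Fact (Nat.Prime 2) := ⟨Nat.prime_two⟩
  obtain ⟨x, hxT, hx1, hxc⟩ :=
    Cfsg.Agent.Lib.H10.exists_ne_one_mem_center_of_normal hS (T.subgroupOf S₀) hne
  rw [Subgroup.mem_subgroupOf] at hxT
  rw [Subgroup.mem_center_iff] at hxc
  have hxt : (x : G) = t := by
    have hcomm : ∀ y ∈ S₀, (x : G) * y = y * x := by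
      intro y hy
      have := hxc ⟨y, hy⟩
      exact (congrArg Subtype.val this).symm
    rcases hZ x.1 x.2 hcomm with h | h
    · exact absurd (Subtype.ext h) hx1
    · exact h
  have htT : t ∈ T := hxt ▸ hxT
  exact hchain T hTS htT hcl

/-- **The 2-fusion system is simple.** -/
theorem FusData.isSimple [Finite G] {S₀ Q' H' : Subgroup G} {t u : G} {m : ℕ}
    (d : FusData S₀ Q' H' t u m) (S : Sylow 2 G) :
    (Cfsg.groupFusionSystem (S : Subgroup G)).IsSimple 2 := by
  haveI : Fact (Nat.Prime 2) := ⟨Nat.prime_two⟩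
  have hZ : ∀ x ∈ S₀, (∀ y ∈ S₀, x * y = y * x) → x = 1 ∨ x = t := by
    intro x hx hc
    exact d.hCQ x hx (fun q hq => hc q (d.hQS hq))
  have hCQ : ∀ x ∈ S₀, (∀ q ∈ Q', x * q = q * x) → x ∈ Q' := by
    intro x hx hc
    rcases d.hCQ x hx hc with h | h
    · rw [h]; exact Q'.one_mem
    · rw [h]; exact d.htQ
  have hfac : ∀ c : G, c * t = t * c → ∃ q ∈ Q', ∃ h ∈ H', c = q * h := by
    apply Cfsg.Agent.Lib.H3.FusGen.centralizer_factor t Q' H' _ _ d.cardC d.cardQ d.isoH d.hnorm
    · intro q hq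
      rw [Subgroup.mem_centralizer_iff]
      intro h hh
      rw [Set.mem_singleton_iff] at hh
      subst hh
      exact d.htc q (d.hQS hq)
    · intro q hq
      rw [Subgroup.mem_centralizer_iff]
      intro h hh
      rw [Set.mem_singleton_iff] at hh
      subst hh
      exact d.hHc q hq
  obtain ⟨e0⟩ := d.isoH
  haveI : IsSimpleGroup H' := e0.isSimpleGroup
  have hHgen : H' ≤ Subgroup.closure {x : G | x ∈ H' ∧ x * x = 1} :=
    Cfsg.Agent.Lib.H3.FusGen.le_closure_involutions H' u d.huH d.hu1 d.huu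
  obtain ⟨g, hg⟩ := Cfsg.Agent.Lib.H3.FusGen.sylow_conj S₀ m d.hm d.cardS d.cardG S
  apply Cfsg.Agent.Lib.H25.LieCrit.isSimple_of_gen_conj S S₀ g hg
  · intro h
    have := d.cardS
    rw [h, Subgroup.card_bot] at this
    norm_num at this
  · exact stronglyClosed_of_chain S₀ (IsPGroup.of_card (n := 7) (by rw [d.cardS]; norm_num)) t hZ
      d.hchain
  · exact Cfsg.Agent.Lib.H3.FusGen.normalizer_le_closure_goodElt S₀ Q' H' t d.ht1
      (d.hQS d.htQ) d.htc hZ hfac d.hQS d.hnorm hCQ hHgen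

/-- transport of the data along an isomorphism -/
theorem FusData.map {G' : Type*} [Group G'] [Finite G] {S₀ Q' H' : Subgroup G} {t u : G} {m : ℕ}
    (d : FusData S₀ Q' H' t u m) (e : G ≃* G') :
    FusData (S₀.map (e : G →* G')) (Q'.map (e : G →* G')) (H'.map (e : G →* G')) (e t) (e u)
      m := by
  have hinj : Function.Injective (e : G →* G') := e.injective
  refine
    { hm := d.hm
      cardG := by rw [← Nat.card_congr e.toEquiv]; exact d.cardG
      cardS := by rw [Subgroup.card_map_of_injective hinj]; exact d.cardS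
      cardQ := by rw [Subgroup.card_map_of_injective hinj]; exact d.cardQ
      cardC := ?_
      isoH := ?_
      ht1 := fun h => d.ht1 (e.injective (by rw [h, map_one]))
      htQ := ⟨t, d.htQ, rfl⟩
      hQS := Subgroup.map_mono d.hQS
      htc := ?_
      hHc := ?_
      hCQ := ?_
      hnorm := ?_
      huH := ⟨u, d.huH, rfl⟩
      hu1 := fun h => d.hu1 (e.injective (by rw [h, map_one]))
      huu := by rw [← map_mul, d.huu, map_one]
      hchain := ?_ }
  · refine le_trans ?_ d.cardC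
    let f : Subgroup.centralizer ({e t} : Set G') → Subgroup.centralizer ({t} : Set G) :=
      fun c => ⟨e.symm c.1, by
        rw [Subgroup.mem_centralizer_iff]
        intro h hh
        rw [Set.mem_singleton_iff] at hh
        subst hh
        have := Subgroup.mem_centralizer_iff.mp c.2 (e h) rfl
        apply e.injective
        rw [map_mul, map_mul, e.apply_symm_apply]
        exact this⟩
    apply Nat.card_le_card_of_injective f
    intro a b hab
    have := congrArg Subtype.val hab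
    exact Subtype.ext (e.symm.injective this)
  · obtain ⟨e0⟩ := d.isoH
    exact ⟨(e.subgroupMap H').symm.trans e0⟩
  · rintro _ ⟨y, hy, rfl⟩
    show e t * e y = e y * e t
    rw [← map_mul, ← map_mul, d.htc y hy]
  · rintro _ ⟨y, hy, rfl⟩
    show e t * e y = e y * e t
    rw [← map_mul, ← map_mul, d.hHc y hy]
  · rintro _ ⟨x, hx, rfl⟩ hc
    have := d.hCQ x hx (fun q hq => by
      apply e.injective
      rw [map_mul, map_mul]
      exact hc (e q) ⟨q, hq, rfl⟩)
    rcases this with h | h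
    · left; show e x = 1; rw [h, map_one]
    · right; show e x = e t; rw [h]
  · rintro _ ⟨h, hh, rfl⟩ _ ⟨q, hq, rfl⟩
    refine ⟨h * q * h⁻¹, d.hnorm h hh q hq, ?_⟩
    show e (h * q * h⁻¹) = e h * e q * (e h)⁻¹
    rw [map_mul, map_mul, map_inv]
  · intro T hTS htT hcl
    have h1 := d.hchain (T.comap (e : G →* G')) ?_ ?_ ?_
    · rintro _ ⟨x, hx, rfl⟩
      exact h1 hx
    · intro x hx
      have : (e : G →* G') x ∈ S₀.map (e : G →* G') := hTS hx
      obtain ⟨y, hy, hyx⟩ := this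
      rw [← hinj hyx]; exact hy
    · exact htT
    · intro x hx g hg
      show e (g * x * g⁻¹) ∈ T
      rw [map_mul, map_mul, map_inv]
      apply hcl (e x) hx (e g)
      rw [← map_inv, ← map_mul, ← map_mul]
      exact ⟨_, hg, rfl⟩

end Cfsg.Agent.Lib.H22.J2Fus
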