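import Cfsg.Agent.Lib.H22.J2Fus.Chk
import Cfsg.Agent.Lib.H22.J2Fus.Gen
import Cfsg.Agent.Lib.H2.Deg60

set_option autoImplicit false
set_option maxRecDepth 100000

/-! # The 2-local structure of the Hall–Janko group (presented form)

In helper17's presented group `G`: the generator `b` is an involution `t` with centraliser
`Q₀ : H₀` of order 1920, `Q₀` of order 32, `H₀ ≅ A₅`; `S₀` is a Sylow 2-subgroup containing `Q₀`. -/

namespace Cfsg.Agent.Lib.H22.J2Fus

open Cfsg.Agent.Lib.H17.CosetCert Cfsg.Agent.Lib.H17.J2P100 Cfsg.Agent.Lib.H17.J2PGlue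
  Cfsg.Agent.Lib.H17.J2Deg100 Cfsg.Agent.Lib.H22.J2Spec Cfsg.Agent.Lib.H22.J2Out
open scoped commutatorElement

/-- a Sylow 2-subgroup -/
noncomputable def S0 : Subgroup G := gsub gpS

/-- the extraspecial normal subgroup of the involution centraliser -/
noncomputable def Q0 : Subgroup G := gsub gpQ

/-- a complement, isomorphic to `A₅` -/
noncomputable def H0 : Subgroup G := gsub gpH

/-- the central involution (the generator `b`) -/
noncomputable def tt : G := el [1]

/-- generator `i` of the Sylow subgroup -/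
noncomputable def gS (i : ℕ) : G := el (gpS.getD i (0, [])).2

/-- conjugator `i` of the chain -/
noncomputable def cE (i : ℕ) : G := el (cg.getD i [])

/-- an involution of the complement -/
noncomputable def uu : G := el (gpH.getD 0 (0, [])).2

theorem rep_tt : Rep tt [tab1] := rep_el [1]

theorem gpS_length : gpS.length = 6 := rfl

theorem gpH_length : gpH.length = 2 := rfl

theorem gpQ_sub : ∀ p ∈ gpQ, p ∈ gpS := fun _ hp => List.mem_of_mem_take hp

theorem gS_mem_list (i : ℕ) (hi : i < 6) : gpS.getD i (0, []) ∈ gpS :=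
  mem_getD gpS i _ (by rw [gpS_length]; exact hi)

theorem rep_gS (i : ℕ) (hi : i < 6) : Rep (gS i) [TS i] :=
  rep_gen gpS gpS_ok _ (gS_mem_list i hi)

theorem gS_mem (i : ℕ) (hi : i < 6) : gS i ∈ S0 := gen_mem_gsub gpS _ (gS_mem_list i hi)

theorem rep_uu : Rep uu [TH 0] :=
  rep_gen gpH gpH_ok _ (mem_getD gpH 0 _ (by rw [gpH_length]; norm_num))

theorem uu_mem : uu ∈ H0 :=
  gen_mem_gsub gpH _ (mem_getD gpH 0 _ (by rw [gpH_length]; norm_num))

theorem uu_sq : uu * uu = 1 := eq_of_eqB (rep_uu.mul rep_uu) rep_one u_sq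

theorem uu_ne : uu ≠ 1 := ne_of_eqB_false rep_uu rep_one u_ne

theorem tt_ne : tt ≠ 1 := ne_of_eqB_false rep_tt rep_one t_ne

theorem S0_cover : ∀ x ∈ S0, ∃ p ∈ LSl, x = el (wd gpS p.2) :=
  listed_cover gpS LSl gpS_ok LS_ok LS_one LS_cl

theorem Q0_cover : ∀ x ∈ Q0, ∃ p ∈ LQl, x = el (wd gpQ p.2) :=
  listed_cover gpQ LQl gpQ_ok LQ_ok LQ_one LQ_cl

theorem H0_cover : ∀ x ∈ H0, ∃ p ∈ LHl, x = el (wd gpH p.2) :=
  listed_cover gpH LHl gpH_ok LH_ok LH_one LH_cl

theorem card_S0 : Nat.card S0 = 128 := by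
  unfold S0
  rw [listed_card gpS LSl gpS_ok LS_ok LS_one LS_cl (by rw [LS_code]; exact SCode_nodup)]
  exact LS_length

theorem card_Q0 : Nat.card Q0 = 32 := by
  unfold Q0
  rw [listed_card gpQ LQl gpQ_ok LQ_ok LQ_one LQ_cl (by rw [LQ_code]; exact QCode_nodup)]
  exact LQ_length

theorem card_H0 : Nat.card H0 = 60 := by
  unfold H0
  rw [listed_card gpH LHl gpH_ok LH_ok LH_one LH_cl (by rw [LH_code]; exact HCode_nodup)]
  exact LH_length

theorem Q0_le_S0 : Q0 ≤ S0 := by
  apply Subgroup.closure_mono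
  rintro _ ⟨p, hp, rfl⟩
  exact ⟨p, gpQ_sub p hp, rfl⟩

theorem tt_mem_Q0 : tt ∈ Q0 := by
  obtain ⟨p, hp, hpe⟩ := List.any_eq_true.mp t_in_Q
  have : el (wd gpQ p.2) = tt := eq_of_eqB (rep_listed gpQ LQl LQ_ok p hp) rep_tt hpe
  rw [← this]
  exact el_wd_mem gpQ _

theorem tt_comm_S0 : ∀ y ∈ S0, tt * y = y * tt := by
  have hle : S0 ≤ Subgroup.centralizer ({tt} : Set G) := by
    show Subgroup.closure _ ≤ _
    rw [Subgroup.closure_le]
    rintro _ ⟨p, hp, rfl⟩
    rw [SetLike.mem_coe, Subgroup.mem_centralizer_iff]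
    intro h hh
    rw [Set.mem_singleton_iff] at hh
    subst hh
    exact eq_of_eqB (rep_tt.mul (rep_gen gpS gpS_ok p hp)) ((rep_gen gpS gpS_ok p hp).mul rep_tt)
      (List.all_eq_true.mp t_comm_S p hp)
  intro y hy
  exact Subgroup.mem_centralizer_iff.mp (hle hy) tt rfl

theorem tt_comm_H0 : ∀ y ∈ H0, tt * y = y * tt := by
  have hle : H0 ≤ Subgroup.centralizer ({tt} : Set G) := by
    show Subgroup.closure _ ≤ _
    rw [Subgroup.closure_le]
    rintro _ ⟨p, hp, rfl⟩
    rw [SetLike.mem_coe, Subgroup.mem_centralizer_iff]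
    intro h hh
    rw [Set.mem_singleton_iff] at hh
    subst hh
    exact eq_of_eqB (rep_tt.mul (rep_gen gpH gpH_ok p hp)) ((rep_gen gpH gpH_ok p hp).mul rep_tt)
      (List.all_eq_true.mp t_comm_H p hp)
  intro y hy
  exact Subgroup.mem_centralizer_iff.mp (hle hy) tt rfl

/-- the centraliser of `Q₀` in `S₀` is `{1, t}` -/
theorem cent_Q0_in_S0 (x : G) (hx : x ∈ S0) (hc : ∀ q ∈ Q0, x * q = q * x) : x = 1 ∨ x = tt := by
  obtain ⟨p, hp, rfl⟩ := S0_cover x hx
  have hrep := rep_listed gpS LSl LS_ok p hp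
  have h := List.all_eq_true.mp cq_chk p hp
  rw [Bool.or_eq_true, Bool.or_eq_true] at h
  rcases h with h | h | h
  · left
    exact eq_of_eqB hrep rep_one h
  · right
    exact eq_of_eqB hrep rep_tt h
  · exfalso
    obtain ⟨g, hg, hne⟩ := List.any_eq_true.mp h
    have hgr := rep_gen gpQ gpQ_ok g hg
    have e := hc (el g.2) (gen_mem_gsub gpQ g hg)
    have h1 : Rep (el (wd gpS p.2) * el g.2) ([g.1] ++ [p.1]) := hrep.mul hgr
    have h2 : Rep (el (wd gpS p.2) * el g.2) ([p.1] ++ [g.1]) := by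
      rw [e]
      exact hgr.mul hrep
    rw [eqB_of_rep h1 h2] at hne
    exact absurd hne (by simp)

/-- the generators of `H₀` normalise `Q₀` -/
theorem conj_mem_Q0 (h : ℕ × List ℕ) (hh : h ∈ gpH) :
    ∀ x ∈ Q0, el h.2 * x * (el h.2)⁻¹ ∈ Q0 := by
  have hle : Q0 ≤ Q0.comap (MulAut.conj (el h.2)).toMonoidHom := by
    show Subgroup.closure _ ≤ _
    rw [Subgroup.closure_le]
    rintro _ ⟨q, hq, rfl⟩
    show el h.2 * el q.2 * (el h.2)⁻¹ ∈ Q0
    obtain ⟨r, hr, hre⟩ := List.any_eq_true.mp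
      (List.all_eq_true.mp (List.all_eq_true.mp norm_chk h hh) q hq)
    have e : el h.2 * el q.2 = el (wd gpQ r.2) * el h.2 :=
      eq_of_eqB ((rep_gen gpH gpH_ok h hh).mul (rep_gen gpQ gpQ_ok q hq))
        ((rep_listed gpQ LQl LQ_ok r hr).mul (rep_gen gpH gpH_ok h hh)) hre
    rw [e, mul_inv_cancel_right]
    exact el_wd_mem gpQ _
  intro x hx
  exact hle hx

theorem H0_normalizes : ∀ h ∈ H0, ∀ q ∈ Q0, h * q * h⁻¹ ∈ Q0 := by
  haveI := Cfsg.Agent.Lib.H17.J2Ord.finite_G
  have hle : H0 ≤ Subgroup.normalizer (Q0 : Set G) := by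
    show Subgroup.closure _ ≤ _
    rw [Subgroup.closure_le]
    rintro _ ⟨p, hp, rfl⟩
    exact Cfsg.Agent.Lib.H3.FusGen.mem_normalizer_of_conj Q0 _ (conj_mem_Q0 p hp)
  intro h hh q hq
  exact (Subgroup.mem_normalizer_iff.mp (hle hh) q).mp hq

/-- `H₀` is perfect -/
theorem H0_perfect : H0 ≤ ⁅H0, H0⁆ := by
  show Subgroup.closure _ ≤ _
  rw [Subgroup.closure_le]
  rintro _ ⟨g, hg, rfl⟩
  obtain ⟨c, -, hce⟩ := List.any_eq_true.mp (List.all_eq_true.mp comm_chk g hg)
  have e : el g.2 * el (wd gpH c.2) * el (wd gpH c.1) = el (wd gpH c.1) * el (wd gpH c.2) :=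
    eq_of_eqB (((rep_gen gpH gpH_ok g hg).mul (rep_el _)).mul (rep_el _))
      ((rep_el _).mul (rep_el _)) hce
  have e2 : el g.2 = ⁅el (wd gpH c.1), el (wd gpH c.2)⁆ := by
    rw [commutatorElement_def, ← e]
    group
  rw [SetLike.mem_coe, e2]
  exact Subgroup.commutator_mem_commutator (el_wd_mem gpH _) (el_wd_mem gpH _)

theorem H0_not_solvable : ¬ Group.IsSolvable H0 := by
  intro hs
  haveI := Cfsg.Agent.Lib.H17.J2Ord.finite_G
  haveI : Nontrivial H0 := by
    rw [← Finite.one_lt_card_iff_nontrivial, card_H0]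
    norm_num
  haveI := hs
  have h1 := Group.IsSolvable.commutator_lt_top_of_nontrivial H0
  have h2 : commutator H0 = ⊤ := by
    rw [eq_top_iff]
    intro x _
    have h3 := H0_perfect x.2
    rw [← Subgroup.map_subtype_commutator] at h3
    obtain ⟨y, hy, hyx⟩ := h3
    have : y = x := Subtype.ext hyx
    rw [← this]
    exact hy
  exact absurd h2 (ne_of_lt h1)

theorem H0_iso : Nonempty (H0 ≃* alternatingGroup (Fin 5)) := by
  haveI := Cfsg.Agent.Lib.H17.J2Ord.finite_G
  haveI : IsSimpleGroup H0 := Cfsg.Agent.Lib.H2.Deg60.simple_of_card_60' H0 card_H0 H0_not_solvable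
  exact Cfsg.Agent.Lib.H2.simple60_iso_A5 card_H0

/-! ### the order of the centraliser -/

theorem el_reverse_mul (w : List ℕ) : el w.reverse * el w = 1 := by
  induction w with
  | nil => simp [el_nil]
  | cons x w ih =>
    have h1 : el (x :: w) = el w * el [x] := by
      rw [← el_append]
      rfl
    have h2 : el ((x :: w).reverse) = el [x] * el w.reverse := by
      rw [List.reverse_cons, el_append]
    rw [h1, h2, el_single]
    calc PresentedGroup.of (gen x) * el w.reverse * (el w * PresentedGroup.of (gen x))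
        = PresentedGroup.of (gen x) * (el w.reverse * el w) * PresentedGroup.of (gen x) := by
          group
      _ = 1 := by rw [ih, mul_one, of_mul_self]

theorem el_inv (w : List ℕ) : (el w)⁻¹ = el w.reverse :=
  (eq_inv_of_mul_eq_one_left (el_reverse_mul w)).symm

theorem el_cjw (w : List ℕ) : el (cjw w) = el w * tt * (el w)⁻¹ := by
  unfold cjw
  rw [el_append, el_append, el_inv, mul_assoc]
  rfl

theorem codeW_eq_of_rep {g : G} {ts us : List ℕ} (h1 : Rep g ts) (h2 : Rep g us) :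
    codeW ts = codeW us := by
  have key : ∀ (b : ℕ) (hb : b < 100), applyT 7 128 ts b = applyT 7 128 us b := by
    intro b hb
    rw [← h1 ⟨b, hb⟩, ← h2 ⟨b, hb⟩]
  unfold codeW
  rw [key 0 (by norm_num), key 36 (by norm_num), key 1 (by norm_num), key 2 (by norm_num)]

theorem conj_mul_of_comm {α : Type*} [Group α] (a c t : α) (h : c * t = t * c) :
    (a * c) * t * (a * c)⁻¹ = a * t * a⁻¹ := by
  rw [mul_inv_rev]
  calc a * c * t * (c⁻¹ * a⁻¹) = a * (c * t) * c⁻¹ * a⁻¹ := by group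
    _ = a * (t * c) * c⁻¹ * a⁻¹ := by rw [h]
    _ = a * t * a⁻¹ := by group

theorem card_cent_le : Nat.card (Subgroup.centralizer ({tt} : Set G)) ≤ 1920 := by
  haveI := Cfsg.Agent.Lib.H17.J2Ord.finite_G
  have hnd : (Cj.map fun w => codeW (tw (cjw w))).Nodup := by
    rw [Cj_code]
    exact CjCode_nodup
  have hCnd : Cj.Nodup := List.Nodup.of_map _ hnd
  let F : {w // w ∈ Cj} × Subgroup.centralizer ({tt} : Set G) → G := fun p => el p.1.1 * p.2.1
  have hF : Function.Injective F := by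
    rintro ⟨⟨w, hw⟩, ⟨c, hc⟩⟩ ⟨⟨w', hw'⟩, ⟨c', hc'⟩⟩ h
    have h' : el w * c = el w' * c' := h
    have hct : c * tt = tt * c := (Subgroup.mem_centralizer_iff.mp hc tt rfl).symm
    have hct' : c' * tt = tt * c' := (Subgroup.mem_centralizer_iff.mp hc' tt rfl).symm
    have e1 : el w * tt * (el w)⁻¹ = el w' * tt * (el w')⁻¹ := by
      rw [← conj_mul_of_comm (el w) c tt hct, ← conj_mul_of_comm (el w') c' tt hct', h']
    have e2 : codeW (tw (cjw w)) = codeW (tw (cjw w')) := by
      apply codeW_eq_of_rep (g := el (cjw w)) (rep_el _)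
      rw [el_cjw, e1, ← el_cjw]
      exact rep_el _
    have e3 : w = w' := List.inj_on_of_nodup_map hnd hw hw' e2
    subst e3
    have e4 : c = c' := mul_left_cancel h'
    subst e4
    rfl
  have h1 := Nat.card_le_card_of_injective F hF
  rw [Nat.card_prod, card_list_subtype Cj hCnd, Cj_length,
    Cfsg.Agent.Lib.H17.J2Ord.card_eq] at h1
  omega

/-! ### the chain for the strongly closed subgroups -/

theorem forall_mem_of_forall_getD {α : Type*} (l : List α) (d : α) (P : α → Prop)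
    (h : ∀ i < l.length, P (l.getD i d)) : ∀ x ∈ l, P x := by
  intro x hx
  obtain ⟨i, hi, rfl⟩ := List.getElem_of_mem hx
  have := h i hi
  rwa [List.getD_eq_getElem _ _ hi] at this

theorem conj_of_rel {α : Type*} [Group α] {g x y : α} (h : g * x = y * g) :
    g * x * g⁻¹ = y := by
  rw [h, mul_inv_cancel_right]

theorem chain (T : Subgroup G) (_hTS : T ≤ S0) (ht : tt ∈ T)
    (hcl : ∀ x ∈ T, ∀ g : G, g * x * g⁻¹ ∈ S0 → g * x * g⁻¹ ∈ T) : S0 ≤ T := by
  have hq : ∀ i < 4, gS i ∈ T := by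
    intro i hi
    have hrel : cE i * tt = gS i * cE i :=
      eq_of_eqB ((rep_el _).mul rep_tt) ((rep_gS i (by omega)).mul (rep_el _))
        (List.all_eq_true.mp conj_chk i (List.mem_range.mpr hi))
    have e := conj_of_rel hrel
    rw [← e]
    apply hcl _ ht
    rw [e]
    exact gS_mem i (by omega)
  have h5 : gS 4 ∈ T := by
    have hrel : cE 4 * (gS 0 * gS 1) = gS 4 * cE 4 :=
      eq_of_eqB ((rep_el _).mul ((rep_gS 0 (by norm_num)).mul (rep_gS 1 (by norm_num))))
        ((rep_gS 4 (by norm_num)).mul (rep_el _)) conj5_chk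
    have e := conj_of_rel hrel
    rw [← e]
    apply hcl _ (T.mul_mem (hq 0 (by norm_num)) (hq 1 (by norm_num)))
    rw [e]
    exact gS_mem 4 (by norm_num)
  have h6 : gS 5 ∈ T := by
    have hrel : cE 5 * gS 4 = gS 5 * cE 5 :=
      eq_of_eqB ((rep_el _).mul (rep_gS 4 (by norm_num)))
        ((rep_gS 5 (by norm_num)).mul (rep_el _)) conj6_chk
    have e := conj_of_rel hrel
    rw [← e]
    apply hcl _ h5
    rw [e]
    exact gS_mem 5 (by norm_num)
  show Subgroup.closure _ ≤ _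
  rw [Subgroup.closure_le]
  rintro _ ⟨p, hp, rfl⟩
  rw [SetLike.mem_coe]
  refine forall_mem_of_forall_getD gpS (0, []) (fun p => el p.2 ∈ T) ?_ p hp
  intro i hi
  have hi6 : i < 6 := by rw [gpS_length] at hi; exact hi
  show gS i ∈ T
  interval_cases i
  · exact hq 0 (by norm_num)
  · exact hq 1 (by norm_num)
  · exact hq 2 (by norm_num)
  · exact hq 3 (by norm_num)
  · exact h5
  · exact h6

/-- **The local data of the presented Hall–Janko group.** -/
theorem fusData : FusData S0 Q0 H0 tt uu 4725 where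
  hm := by norm_num
  cardG := by rw [Cfsg.Agent.Lib.H17.J2Ord.card_eq]
  cardS := card_S0
  cardQ := card_Q0
  cardC := card_cent_le
  isoH := H0_iso
  ht1 := tt_ne
  htQ := tt_mem_Q0
  hQS := Q0_le_S0
  htc := tt_comm_S0
  hHc := tt_comm_H0
  hCQ := cent_Q0_in_S0
  hnorm := H0_normalizes
  huH := uu_mem
  hu1 := uu_ne
  huu := uu_sq
  hchain := chain

end Cfsg.Agent.Lib.H22.J2Fus
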