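import Cfsg.Agent.Lib.H22.J2Out.Cent

set_option autoImplicit false
set_option maxRecDepth 100000

/-! # Listed subgroups of the Hall–Janko group

A subgroup of helper17's presented group `G` generated by a few words is *listed* by a list of
pairs (table, word of generator indices); the kernel checks that the list is closed under right
multiplication by the generators, so that it covers the subgroup. -/

namespace Cfsg.Agent.Lib.H22.J2Fus

open Cfsg.Agent.Lib.H17.CosetCert Cfsg.Agent.Lib.H17.J2P100 Cfsg.Agent.Lib.H17.J2PGlue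
  Cfsg.Agent.Lib.H17.J2Deg100 Cfsg.Agent.Lib.H22.J2Spec Cfsg.Agent.Lib.H22.J2Out

/-- the word of a list of generator indices -/
def wd (gp : List (ℕ × List ℕ)) (idx : List ℕ) : List ℕ :=
  (idx.map fun i => (gp.getD i (0, [])).2).flatten

/-- the subgroup generated by the words of the list -/
noncomputable def gsub (gp : List (ℕ × List ℕ)) : Subgroup G :=
  Subgroup.closure {x | ∃ p ∈ gp, x = el p.2}

theorem el_flatten (ws : List (List ℕ)) : el ws.flatten = (ws.reverse.map el).prod := by
  induction ws with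
  | nil => simp [el_nil]
  | cons w ws ih =>
    rw [List.flatten_cons, el_append, ih, List.reverse_cons, List.map_append, List.prod_append]
    simp

theorem gen_mem_gsub (gp : List (ℕ × List ℕ)) (p : ℕ × List ℕ) (hp : p ∈ gp) :
    el p.2 ∈ gsub gp :=
  Subgroup.subset_closure ⟨p, hp, rfl⟩

theorem el_wd_mem (gp : List (ℕ × List ℕ)) (idx : List ℕ) : el (wd gp idx) ∈ gsub gp := by
  unfold wd
  rw [el_flatten]
  apply Subgroup.list_prod_mem
  intro x hx
  rw [List.mem_map] at hx
  obtain ⟨w, hw, rfl⟩ := hx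
  rw [List.mem_reverse, List.mem_map] at hw
  obtain ⟨i, -, rfl⟩ := hw
  by_cases hi : i < gp.length
  · exact gen_mem_gsub gp _ (mem_getD gp i _ hi)
  · rw [List.getD_eq_default _ _ (not_lt.mp hi)]
    show el [] ∈ _
    rw [el_nil]
    exact Subgroup.one_mem _

theorem rep_gen (gp : List (ℕ × List ℕ))
    (hg : gp.all (fun p => wordTab (tw p.2) p.1 100) = true) (p : ℕ × List ℕ) (hp : p ∈ gp) :
    Rep (el p.2) [p.1] :=
  (rep_el _).single (wordTab_sound _ _ _ (List.all_eq_true.mp hg p hp))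

theorem rep_listed (gp LS : List (ℕ × List ℕ))
    (hL : LS.all (fun p => wordTab (tw (wd gp p.2)) p.1 100) = true) (p : ℕ × List ℕ)
    (hp : p ∈ LS) : Rep (el (wd gp p.2)) [p.1] :=
  (rep_el _).single (wordTab_sound _ _ _ (List.all_eq_true.mp hL p hp))

theorem mul_inv_mem_of_finite {α : Type*} [Group α] [Finite α] (X : Set α) (g : α)
    (h : ∀ x ∈ X, x * g ∈ X) : ∀ x ∈ X, x * g⁻¹ ∈ X := by
  intro x hx
  let f : X → X := fun y => ⟨y.1 * g, h y.1 y.2⟩
  have hf : Function.Injective f := fun a b hab =>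
    Subtype.ext (mul_right_cancel (congrArg Subtype.val hab))
  obtain ⟨y, hy⟩ := (Finite.injective_iff_surjective.mp hf) ⟨x, hx⟩
  have e : y.1 * g = x := congrArg Subtype.val hy
  rw [← e, mul_inv_cancel_right]
  exact y.2

/-- **The list covers the subgroup.** -/
theorem listed_cover (gp LS : List (ℕ × List ℕ))
    (hg : gp.all (fun p => wordTab (tw p.2) p.1 100) = true)
    (hL : LS.all (fun p => wordTab (tw (wd gp p.2)) p.1 100) = true)
    (h1 : LS.any (fun p => eqB [p.1] []) = true)
    (hcl : LS.all (fun p => gp.all (fun g => LS.any (fun r => eqB ([g.1] ++ [p.1]) [r.1])))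
      = true) :
    ∀ x ∈ gsub gp, ∃ p ∈ LS, x = el (wd gp p.2) := by
  haveI := Cfsg.Agent.Lib.H17.J2Ord.finite_G
  let X : Set G := {x | ∃ p ∈ LS, x = el (wd gp p.2)}
  have hmul : ∀ g ∈ gp, ∀ x ∈ X, x * el g.2 ∈ X := by
    rintro g hgm x ⟨p, hp, rfl⟩
    have h2 := List.all_eq_true.mp (List.all_eq_true.mp hcl p hp) g hgm
    obtain ⟨r, hr, hre⟩ := List.any_eq_true.mp h2
    exact ⟨r, hr, eq_of_eqB ((rep_listed gp LS hL p hp).mul (rep_gen gp hg g hgm))
      (rep_listed gp LS hL r hr) hre⟩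
  intro x hx
  show x ∈ X
  refine Subgroup.closure_induction_right (p := fun x _ => x ∈ X) ?_ ?_ ?_ hx
  · obtain ⟨p, hp, hpe⟩ := List.any_eq_true.mp h1
    exact ⟨p, hp, (eq_of_eqB (rep_listed gp LS hL p hp) rep_one hpe).symm⟩
  · rintro x - y ⟨g, hgm, rfl⟩ hxX
    exact hmul g hgm x hxX
  · rintro x - y ⟨g, hgm, rfl⟩ hxX
    exact mul_inv_mem_of_finite X (el g.2) (hmul g hgm) x hxX

/-- the code of a table on the base -/
noncomputable def codeT (T : ℕ) : ℕ :=
  Nat.add (Nat.mul (Nat.add (Nat.mul (Nat.add (Nat.mul (lk 7 128 T 0) 128) (lk 7 128 T 36)) 128)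
    (lk 7 128 T 1)) 128) (lk 7 128 T 2)

theorem codeT_eq_of_rep {g : G} {T U : ℕ} (h1 : Rep g [T]) (h2 : Rep g [U]) :
    codeT T = codeT U := by
  have key : ∀ (b : ℕ) (hb : b < 100), lk 7 128 T b = lk 7 128 U b := by
    intro b hb
    rw [← h1.apply_single ⟨b, hb⟩, ← h2.apply_single ⟨b, hb⟩]
  unfold codeT
  rw [key 0 (by norm_num), key 36 (by norm_num), key 1 (by norm_num), key 2 (by norm_num)]

theorem card_list_subtype {α : Type*} (l : List α) (h : l.Nodup) :
    Nat.card {x // x ∈ l} = l.length := by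
  classical
  rw [Nat.card_congr (Equiv.subtypeEquivRight (q := fun x => x ∈ l.toFinset) (by simp)),
    Nat.card_eq_fintype_card, Fintype.card_coe, List.toFinset_card_of_nodup h]

/-- **The order of a listed subgroup.** -/
theorem listed_card (gp LS : List (ℕ × List ℕ))
    (hg : gp.all (fun p => wordTab (tw p.2) p.1 100) = true)
    (hL : LS.all (fun p => wordTab (tw (wd gp p.2)) p.1 100) = true)
    (h1 : LS.any (fun p => eqB [p.1] []) = true)
    (hcl : LS.all (fun p => gp.all (fun g => LS.any (fun r => eqB ([g.1] ++ [p.1]) [r.1])))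
      = true)
    (hnd : (LS.map fun p => codeT p.1).Nodup) :
    Nat.card (gsub gp) = LS.length := by
  have hLnd : LS.Nodup := List.Nodup.of_map _ hnd
  rw [← card_list_subtype LS hLnd]
  symm
  let f : {p // p ∈ LS} → gsub gp := fun p => ⟨el (wd gp p.1.2), el_wd_mem gp _⟩
  apply Nat.card_congr (Equiv.ofBijective f ⟨?_, ?_⟩)
  · intro a b hab
    have e : el (wd gp a.1.2) = el (wd gp b.1.2) := congrArg Subtype.val hab
    have ha := rep_listed gp LS hL a.1 a.2
    have hb := rep_listed gp LS hL b.1 b.2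
    rw [e] at ha
    exact Subtype.ext (List.inj_on_of_nodup_map hnd a.2 b.2 (codeT_eq_of_rep ha hb))
  · intro x
    obtain ⟨p, hp, hx⟩ := listed_cover gp LS hg hL h1 hcl x.1 x.2
    exact ⟨⟨p, hp⟩, Subtype.ext hx.symm⟩

end Cfsg.Agent.Lib.H22.J2Fus
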