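import Cfsg.Agent.Lib.H22.J2Fus.Grp

set_option autoImplicit false

/-! # The 2-fusion system of the Hall–Janko group is simple (presented form)

For every finite group isomorphic to helper17's presented group `J2Pres.Grp`. -/

namespace Cfsg.Agent.Lib.H22.J2Fus

open Cfsg.Agent.Lib.H17.J2P100

/-- **The 2-fusion system of a group isomorphic to the presented Hall–Janko group is simple.** -/
theorem fusion_of_equiv {G' : Type*} [Group G'] [Finite G']
    (e : Cfsg.Agent.Lib.H17.J2Pres.Grp ≃* G') (S : Sylow 2 G') :
    (Cfsg.groupFusionSystem (S : Subgroup G')).IsSimple 2 := by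
  haveI := Cfsg.Agent.Lib.H17.J2Ord.finite_G
  have e' : G ≃* G' := e
  exact (fusData.map e').isSimple S

end Cfsg.Agent.Lib.H22.J2Fus
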